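import Groth.Agent.LCIShriek.Free
import Groth.Agent.KoszulLib.SchPres
import Groth.Agent.KoszulLib.SchNoeth
import Groth.Agent.KoszulLib.NearPoint
import Groth.Agent.RegImmKinds.Desc
import Groth.Agent.RG.Dev.IntegralFibre
import Groth.Agent.ExtFund.Adjunction
import Groth.Agent.ExtFund.CanonOpen
import Groth.Agent.PCMor.Scheme
import Groth.Agent.S7070
import Groth.Agent.W7Strat.Frame
import Groth.Prelude.Def_Dual3

/-!
Local factorisations of a local complete intersection morphism with all sheaves trivial.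
-/

set_option autoImplicit false
set_option backward.isDefEq.respectTransparency false
set_option backward.isDefEq.respectTransparency.types false
set_option linter.style.haveILetI false
set_option linter.unusedSectionVars false
set_option maxHeartbeats 1600000

universe u

open CategoryTheory Limits AlgebraicGeometry

namespace Groth.Agent.LCIShriek

variable {X Y : Scheme.{u}}

/-- Spec of a polynomial ring is smooth of relative dimension the number of variables -/
theorem smoothRelDim_spec (R : CommRingCat.{u}) (n : ℕ) :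
    SmoothOfRelativeDimension n (Spec.map (CommRingCat.ofHom (algebraMap R (MvPolynomial (Fin n) R)))) := by
  rw [HasRingHomProperty.Spec_iff (P := @SmoothOfRelativeDimension n)]
  haveI := RGDev.smoothRelDim_mvPolynomial R n
  haveI : Algebra.IsStandardSmoothOfRelativeDimension n R (MvPolynomial (Fin n) R) :=
    Algebra.IsStandardSmoothOfRelativeDimension.of_algEquiv n (MvPolynomial.renameEquiv R Equiv.ulift)
  exact RingHom.locally_of RingHom.isStandardSmoothOfRelativeDimension_respectsIso _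
    ((RingHom.isStandardSmoothOfRelativeDimension_algebraMap n).2 inferInstance)

/-- transport of a chart to the top of its open subscheme -/
theorem exists_top_seq {Z P : Scheme.{u}} (i : Z ⟶ P) (U : P.affineOpens)
    (rs : List Γ(P, U.1)) (hrs : RegImm.Kind.regular.Seq Γ(P, U.1) rs)
    (hker : RingHom.ker (i.app U.1).hom = Ideal.ofList rs) :
    ∃ l : List Γ(U.1.toScheme, ⊤), l.length = rs.length ∧ RegImm.Kind.regular.Seq Γ(U.1.toScheme, ⊤) l ∧
      RingHom.ker ((i ∣_ U.1).app ⊤).hom = Ideal.ofList l := by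
  haveI : IsAffine U.1.toScheme := U.2
  have key : ∀ W : P.affineOpens, W = U → ∃ l : List Γ(P, W.1), l.length = rs.length ∧
      RegImm.Kind.regular.Seq Γ(P, W.1) l ∧ RingHom.ker (i.app W.1).hom = Ideal.ofList l := by
    rintro W rfl
    exact ⟨rs, rfl, hrs, hker⟩
  obtain ⟨l, hl, hlr, hlk⟩ := key ⟨U.1.ι ''ᵁ ⊤, (isAffineOpen_top U.1.toScheme).image_of_isOpenImmersion U.1.ι⟩
    (Subtype.ext U.1.ι_image_top)
  refine ⟨l, hl, hlr, Eq.trans ?_ hlk⟩
  rw [morphismRestrict_app]
  exact RingHom.ker_comp_of_injective (i.app (U.1.ι ''ᵁ ⊤)).hom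
    (ConcreteCategory.bijective_of_isIso (Z.presheaf.map (eqToHom
      (image_morphismRestrict_preimage i U.1 ⊤)).op)).1

/-- a chart of a regular immersion gives a regular immersion of constant codimension over it -/
theorem ofCodim_restrict {Z P : Scheme.{u}} (i : Z ⟶ P) (U : P.affineOpens) (hc : IsClosedImmersion (i ∣_ U.1))
    (rs : List Γ(P, U.1)) (hrs : RegImm.Kind.regular.Seq Γ(P, U.1) rs)
    (hker : RingHom.ker (i.app U.1).hom = Ideal.ofList rs) :
    RegImm.IsRegularImmersionOfCodim RegImm.Kind.regular rs.length (i ∣_ U.1) := by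
  haveI := hc
  haveI : IsAffine U.1.toScheme := U.2
  refine ⟨inferInstance, fun z => ?_⟩
  obtain ⟨l, hl, hlr, hlk⟩ := exists_top_seq i U rs hrs hker
  exact ⟨⟨⊤, isAffineOpen_top _⟩, trivial, IsZariskiLocalAtTarget.restrict (P := @IsClosedImmersion) hc _,
    l, hl, hlr, hlk⟩

/-- over a chart the conormal sheaf is free -/
theorem exists_frame_conormal {Z P : Scheme.{u}} (i : Z ⟶ P) [IsImmersion i] [QuasiCompact i] (U : P.affineOpens)
    (hc : IsClosedImmersion (i ∣_ U.1)) (rs : List Γ(P, U.1)) (hseq : RegImm.Kind.regular.Seq Γ(P, U.1) rs)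
    (hker : RingHom.ker (i.app U.1).hom = Ideal.ofList rs) :
    ∃ b : Fin rs.length → Γ(Omega.conormal i, i ⁻¹ᵁ U.1), TMul.IsFrame b := by
  have hch : Conormal.IsChart i U.1 := ⟨U.2, hc⟩
  have hq : CAlgX.IsQuasiRegular rs.get := KoszulLib.quasi_seq_of RegImm.Kind.regular _ rs hseq
  have hker' : RingHom.ker (i.app U.1).hom = Ideal.span (Set.range rs.get) := by
    rw [hker, Set.range_list_get]
  have hz : ∀ j, i.app U.1 (rs.get j) = 0 := fun j =>
    RingHom.mem_ker.1 (hker'.symm ▸ Ideal.subset_span (Set.mem_range_self j))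
  choose s hs using fun j => Conormal.exists_idealSect i U.1 (rs.get j) (hz j)
  let b : Fin rs.length → Γ(Omega.conormal i, i ⁻¹ᵁ U.1) := fun j => OmegaSh.conormalSect i U.1 (s j)
  have key : ∀ a : Fin rs.length → Γ(P, U.1), ∑ j, (i.app U.1).hom (a j) • b j =
      OmegaSh.conormalSect i U.1 (∑ j, a j • s j) := fun a => by
    rw [map_sum]
    exact Finset.sum_congr rfl fun j _ => (Conormal.conormalSect_smul i U.1 (a j) (s j)).symm
  have key2 : ∀ a : Fin rs.length → Γ(P, U.1), OmegaSh.idealSect i.ker U.1 (∑ j, a j • s j) =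
      ∑ j, a j * rs.get j := fun a => by
    rw [map_sum]
    exact Finset.sum_congr rfl fun j _ => by rw [Conormal.idealSect_smul, hs]
  refine ⟨b, PBundle.isFrame_of_bijective (Conormal.isQCoh_conormal i) hch.preimage ⟨?_, ?_⟩⟩
  · intro r r' h
    choose a ha using fun j => hch.surjective (r j - r' j)
    have h0 : ∑ j, (r j - r' j) • b j = 0 := by
      simp only [sub_smul, Finset.sum_sub_distrib]
      exact sub_eq_zero.2 h
    simp only [← ha] at h0
    rw [key, Conormal.conormalSect_eq_zero_iff i hch, key2] at h0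
    funext j
    refine sub_eq_zero.1 ?_
    rw [← ha j]
    refine RingHom.mem_ker.1 ?_
    rw [hker']
    exact SectRank.indep_of_quasi rs.get hq a (by rwa [hker'] at h0) j
  · intro m
    obtain ⟨t, rfl⟩ := Conormal.conormalSect_surjective i hch m
    have hmem : OmegaSh.idealSect i.ker U.1 t ∈ Ideal.span (Set.range rs.get) :=
      hker' ▸ RingHom.mem_ker.2 (Conormal.app_idealSect i U.1 t)
    obtain ⟨a, ha⟩ := Ideal.mem_span_range_iff_exists_fun.1 hmem
    refine ⟨fun j => (i.app U.1).hom (a j), ?_⟩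
    change ∑ j, _ • b j = _
    rw [key]
    congr 1
    exact Conormal.idealSect_injective i.ker U.1 ((key2 a).trans ha)


/-- the conormal sheaf of the restriction to a chart is free -/
theorem nonempty_conormal_free {Z P : Scheme.{u}} [IsAffine P] (i : Z ⟶ P) [IsClosedImmersion i] {r : ℕ}
    (rs : List Γ(P, ⊤)) (hr : rs.length = r) (hseq : RegImm.Kind.regular.Seq Γ(P, ⊤) rs)
    (hker : RingHom.ker (i.app ⊤).hom = Ideal.ofList rs) :
    Nonempty (Omega.conormal i ≅ FlatMod.freeMod Z r) := by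
  subst hr
  obtain ⟨b, hb⟩ := exists_frame_conormal i ⟨⊤, isAffineOpen_top P⟩
    (IsZariskiLocalAtTarget.restrict (P := @IsClosedImmersion) ‹_› _) rs hseq hker
  obtain ⟨e⟩ := W7Strat.nonempty_iso_free (𝟙 Z) (by simp) hb
  exact ⟨((Scheme.Modules.restrictFunctorId).app _).symm ≪≫ e⟩

/-- free conormal sheaf of the restriction to a chart -/
theorem nonempty_conormal_top {Z P : Scheme.{u}} (i : Z ⟶ P) (U : P.affineOpens) (hc : IsClosedImmersion (i ∣_ U.1))
    (rs : List Γ(P, U.1)) (hrs : RegImm.Kind.regular.Seq Γ(P, U.1) rs)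
    (hker : RingHom.ker (i.app U.1).hom = Ideal.ofList rs) :
    Nonempty (Omega.conormal (i ∣_ U.1) ≅ FlatMod.freeMod (i ⁻¹ᵁ U.1).toScheme rs.length) := by
  haveI := hc
  haveI : IsAffine U.1.toScheme := U.2
  obtain ⟨l, hl, hlr, hlk⟩ := exists_top_seq i U rs hrs hker
  exact nonempty_conormal_free (i ∣_ U.1) l hl hlr hlk

/-- **local factorisation** -/
theorem exists_factor [IsLocallyNoetherian Y] (f : X ⟶ Y) (hf : Dual3.IsLCIMor f) (x : X) :
    ∃ (W P : Scheme.{u}) (w : W ⟶ X) (i : W ⟶ P) (g : P ⟶ Y) (n r : ℕ), IsOpenImmersion w ∧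
      x ∈ Set.range w.base ∧ IsClosedImmersion i ∧ IsAffine P ∧ IsSeparated g ∧ SmoothOfRelativeDimension n g ∧
      RegImm.IsRegularImmersionOfCodim RegImm.Kind.regular r i ∧ i ≫ g = w ≫ f ∧
      Nonempty (Omega.conormal i ≅ FlatMod.freeMod W r) ∧
      Nonempty (Omega.sheaf g ≅ FlatMod.freeMod P n) := by
  obtain ⟨U, V, e, hxU, hlci⟩ := hf x
  letI := (f.appLE V.1 U.1 e).hom.toAlgebra
  obtain ⟨-, n, ψ, hψ, hK⟩ := hlci
  let D := MvPolynomial (Fin n) Γ(Y, V.1)
  let φ : CommRingCat.of D ⟶ Γ(X, U.1) := CommRingCat.ofHom ψ.toRingHom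
  haveI : IsClosedImmersion (Spec.map φ) := IsClosedImmersion.spec_of_surjective φ hψ
  let i₀ := U.2.isoSpec.hom ≫ Spec.map φ
  let p₀ := Spec.map (CommRingCat.ofHom (algebraMap Γ(Y, V.1) D)) ≫ V.2.fromSpec
  haveI := smoothRelDim_spec Γ(Y, V.1) n
  haveI : SmoothOfRelativeDimension (n + 0) p₀ := inferInstance
  haveI hp₀ : SmoothOfRelativeDimension n p₀ := by
    simpa only [Nat.add_zero] using (inferInstance : SmoothOfRelativeDimension (n + 0) p₀)
  haveI : Smooth p₀ := SmoothOfRelativeDimension.smooth n p₀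
  haveI : IsSeparated p₀ := inferInstance
  haveI : IsLocallyNoetherian (Spec (CommRingCat.of D)) := LocallyOfFiniteType.isLocallyNoetherian p₀
  have hfac : i₀ ≫ p₀ = U.1.ι ≫ f := by
    show (U.2.isoSpec.hom ≫ Spec.map φ) ≫ _ ≫ V.2.fromSpec = _
    rw [Category.assoc, ← Spec.map_comp_assoc,
      show CommRingCat.ofHom (algebraMap Γ(Y, V.1) D) ≫ φ = f.appLE V.1 U.1 e from
        CommRingCat.hom_ext ψ.comp_algebraMap,
      IsAffineOpen.SpecMap_appLE_fromSpec f V.2 U.2 e, IsAffineOpen.isoSpec_hom_fromSpec_assoc]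
  let z₀ : U.1.toScheme := ⟨x, hxU⟩
  have hi₀ : RegImm.IsRegularImmersionAt .regular i₀ z₀ :=
    (KoszulLib.isRegularImmersionAt_kind_iff .koszul .regular i₀ z₀).1
      ((KoszulLib.spec_isRegularImmersionAt_iff U.2.isoSpec φ hψ z₀).2
        (KoszulLib.isKoszulRegularIdeal_iff.1 hK _))
  obtain ⟨O, hO, ⟨eO⟩⟩ := ExtFund.isFinLocFreeOfRank_omega p₀ n (i₀ z₀)
  let i₁ := i₀ ∣_ O
  let z₁ : (i₀ ⁻¹ᵁ O).toScheme := ⟨z₀, hO⟩
  haveI : IsLocallyNoetherian O.toScheme := isLocallyNoetherian_of_isOpenImmersion O.ι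
  haveI : IsClosedImmersion i₁ := IsZariskiLocalAtTarget.restrict (P := @IsClosedImmersion) inferInstance _
  have hi₁ : RegImm.IsRegularImmersionAt .regular i₁ z₁ :=
    (KoszulLib.isRegularImmersionAt_iff_stalk .regular i₁ z₁).2 ((KoszulLib.stalkReg_restrict_iff i₀ O z₁).2
      ((KoszulLib.isRegularImmersionAt_iff_stalk .regular i₀ z₀).1 hi₀))
  obtain ⟨V₁, hV₁, hc, rs, hrs, hker⟩ := hi₁
  haveI := hc
  let i := i₁ ∣_ V₁.1
  let w := (i₁ ⁻¹ᵁ V₁.1).ι ≫ (i₀ ⁻¹ᵁ O).ι ≫ U.1.ι
  let g := V₁.1.ι ≫ O.ι ≫ p₀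
  have hig : i ≫ g = w ≫ f := by
    show (i₁ ∣_ V₁.1) ≫ V₁.1.ι ≫ O.ι ≫ p₀ = _
    rw [← Category.assoc, morphismRestrict_ι, Category.assoc,
      ← Category.assoc i₁ O.ι, morphismRestrict_ι, Category.assoc, hfac]
    simp [w]
  have hi := ofCodim_restrict i₁ V₁ hc rs hrs hker
  haveI hg₁ : SmoothOfRelativeDimension n (O.ι ≫ p₀) := by
    simpa only [Nat.zero_add] using (inferInstance : SmoothOfRelativeDimension (0 + n) (O.ι ≫ p₀))
  haveI hg : SmoothOfRelativeDimension n g := by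
    simpa only [Nat.zero_add] using (inferInstance : SmoothOfRelativeDimension (0 + n) (V₁.1.ι ≫ O.ι ≫ p₀))
  haveI : IsSeparated g := inferInstance
  obtain ⟨c₁⟩ := ExtFund.nonempty_omega_etale O.ι p₀ (O.ι ≫ p₀) rfl
  obtain ⟨c₂⟩ := ExtFund.nonempty_omega_etale V₁.1.ι (O.ι ≫ p₀) g rfl
  refine ⟨_, _, w, i, g, n, rs.length, inferInstance, ⟨⟨z₁, hV₁⟩, rfl⟩, inferInstance, V₁.2, inferInstance, hg,
    hi, hig, nonempty_conormal_top i₁ V₁ hc rs hrs hker,
    ⟨c₂.symm ≪≫ (Scheme.Modules.pullback V₁.1.ι).mapIso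
      (c₁.symm ≪≫ ((Scheme.Modules.restrictFunctorIsoPullback O.ι).app _).symm ≪≫ eO) ≪≫
      DerPerf.pullFreeIso V₁.1.ι n⟩⟩

end Groth.Agent.LCIShriek
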