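import Groth.Agent.SmoothShriek.Smooth
import Groth.Agent.SGA6Ext.Exists
import Groth.Agent.AVOmega.Basic
import Groth.Agent.W7Hull.InvDual
import Groth.Agent.DCohShriek.DualModule
import Groth.Agent.Dual3Nu.Main
import Groth.Agent.Dual3Nu.Shift
import Groth.Agent.DQCoh.PCCalc
import Groth.Agent.ExtFund.CanonIndep

/-!
`f^! = Lf^*[n]` for smooth morphisms and regular immersions with free conormal data.
-/

set_option autoImplicit false
set_option backward.isDefEq.respectTransparency false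
set_option backward.isDefEq.respectTransparency.types false
set_option linter.style.haveILetI false
set_option linter.unusedSectionVars false
set_option maxHeartbeats 1600000

universe u

open CategoryTheory Limits AlgebraicGeometry

attribute [local instance] HasDerivedCategory.standard

namespace Groth.Agent.LCIShriek

open Groth.Agent.DQCoh (RD)
open Groth.Agent.PerfGen Groth.Agent.DCohShriek

/-- a free module is finite locally free -/
theorem isFinLocFreeOfRank_of_free {X : Scheme.{u}} {n : ℕ} {E : X.Modules} (e : E ≅ FlatMod.freeMod X n) :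
    FlatMod.IsFinLocFreeOfRank n E := by
  refine W7Strat.isFinLocFreeOfRank_of_frames fun x => ?_
  exact ⟨⊤, _, trivial, W7Strat.isFrame_app e.symm (PBundle.isFrame_bv X n)⟩

/-- the dual of the top exterior power of a free module is trivial -/
theorem exists_extPow_trivial {X : Scheme.{u}} {n : ℕ} {E : X.Modules} (e : E ≅ FlatMod.freeMod X n) :
    ∃ L : X.Modules, ExtPow.IsExtPow n E L ∧ Nonempty (RefHull.dual L ≅ Coh.structureModule X) := by
  obtain ⟨L, -, hL⟩ := SGA6Ext.exists_extPow n E fun x => by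
    obtain ⟨U, h1, h2⟩ := isFinLocFreeOfRank_of_free e x
    exact ⟨U, n, h1, h2⟩
  obtain ⟨g⟩ := AVOmega.nonempty_extPow_free e hL
  rw [Nat.choose_self] at g
  let t : L ≅ Coh.structureModule X := g ≪≫ coproductUniqueIso _
  have hLi : PicF.IsInvertible L := fun x =>
    ⟨⊤, trivial, ⟨(Scheme.Modules.restrictFunctor (⊤ : X.Opens).ι).mapIso t ≪≫
      Scheme.Modules.restrictUnitIso (⊤ : X.Opens).ι⟩⟩
  haveI := W7Hull.isIso_evDual hLi
  exact ⟨L, hL, ⟨(SecTwist.unitorR (RefHull.dual L)).symm ≪≫ TMul.commIso _ _ ≪≫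
    PicGrp.tensorModIso t.symm (Iso.refl _) ≪≫ asIso (W7Hull.evDual L)⟩⟩

variable {X Y : Scheme.{u}}

/-- **`i^! = Li^*[-r]`** for a regular immersion with free conormal sheaf -/
theorem nonempty_adjoint_free [IsNoetherian Y] [CompactSpace X] [QuasiSeparatedSpace X] {i : X ⟶ Y}
    [IsClosedImmersion i] {r : ℕ} (hi : RegImm.IsRegularImmersionOfCodim RegImm.Kind.regular r i)
    (hpm : MoreMor.IsPerfectMor i) (e : Omega.conormal i ≅ FlatMod.freeMod X r)
    [DCoh.HasRpush i] [DCoh.HasLpull i] {hq : DCoh.RpushPreservesQCoh i}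
    {d : DCoh.DQCoh Y ⥤ DCoh.DQCoh X} (adj : DCoh.RpushQ i hq ⊣ d) :
    Nonempty (d ⋙ ObjectProperty.ι _ ≅
      ObjectProperty.ι _ ⋙ DCoh.Lpull i ⋙ shiftFunctor (DCoh.D X) (-(r : ℤ))) := by
  haveI : IsNoetherian X := isNoetherian_of_proper i
  obtain ⟨L, hL, ⟨t⟩⟩ := exists_extPow_trivial e
  let O : DCoh.DQCoh Y := ⟨DCoh.inD Y (Coh.structureModule Y),
    DCohShriek.isQCohD_inD (QC.isQCoh_unit Y)⟩
  obtain ⟨e₀⟩ := SmoothShriek.nonempty_adjoint_regular hi hL adj O ⟨Iso.refl _⟩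
  let E := Dual3Nu.unitShift X (-(r : ℤ))
  haveI : DCoh.HasLTensorCx E := KFlat.hasLTensorCx _
  let eE : DCoh.toD X E ≅ (DCoh.inD X (Coh.structureModule X))⟦-(r : ℤ)⟧ :=
    ((DerivedCategory.Q (C := X.Modules)).commShiftIso (-(r : ℤ))).app _ ≪≫
      (shiftFunctor (DCoh.D X) (-(r : ℤ))).mapIso
        ((DerivedCategory.singleFunctorIsoCompQ X.Modules 0).app (Coh.structureModule X)).symm
  obtain ⟨ν⟩ := Dual3Nu.nonempty_iso i adj (fun G hG => by
    obtain ⟨-, a', b', ha', hb'⟩ := S1006.result X G hG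
    haveI := ha'
    exact S4267.result i hpm G a' hG) O ⟨Iso.refl _⟩ E
    ⟨eE ≪≫ (shiftFunctor (DCoh.D X) (-(r : ℤ))).mapIso
      ((DerivedCategory.singleFunctor X.Modules 0).mapIso t.symm) ≪≫ e₀.symm⟩
  obtain ⟨sh⟩ := Dual3Nu.nonempty_ltensor_iso_shift (-(r : ℤ)) E (Iso.refl _)
  exact ⟨ν ≪≫ Functor.isoWhiskerLeft _ (Functor.isoWhiskerLeft _ sh)⟩

/-- **`f^! = Lf^*[n]`** for smooth `f` with free differentials -/
theorem nonempty_shriek_smooth_free [IsNoetherian X] [IsNoetherian Y] (n : ℕ) {f : X ⟶ Y}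
    [SmoothOfRelativeDimension n f] [IsSeparated f] (e : Omega.sheaf f ≅ FlatMod.freeMod X n)
    (c : DEt.Compactification f) [DCoh.HasRpush c.fbar] {hc : DCoh.RpushPreservesQCoh c.fbar}
    {a : DCoh.DQCoh Y ⥤ DCoh.DQCoh c.Xbar} (adj : DCoh.RpushQ c.fbar hc ⊣ a) [DCoh.HasLpull f] :
    Nonempty (Dual3.bddι Y ⋙ a ⋙ ObjectProperty.ι _ ⋙ RD c.j ≅
      Dual3.bddι Y ⋙ ObjectProperty.ι _ ⋙ DCoh.Lpull f ⋙ shiftFunctor (DCoh.D X) (n : ℤ)) := by
  haveI : Smooth f := SmoothOfRelativeDimension.smooth n f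
  haveI : LocallyOfFiniteType f := inferInstance
  haveI : Flat f := inferInstance
  let P := pullback f f
  let p₂ : P ⟶ X := pullback.snd f f
  let Δ : X ⟶ P := pullback.diagonal f
  have hP : IsPullback (pullback.fst f f) p₂ f f := IsPullback.of_hasPullback f f
  have h₁ : Δ ≫ pullback.fst f f = 𝟙 X := pullback.diagonal_fst f
  have h₂ : Δ ≫ p₂ = 𝟙 X := pullback.diagonal_snd f
  haveI : SmoothOfRelativeDimension n p₂ :=
    (smoothOfRelativeDimension_isStableUnderBaseChange n).of_isPullback hP inferInstance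
  haveI : Smooth p₂ := SmoothOfRelativeDimension.smooth n p₂
  haveI : QuasiCompact f := quasiCompact_of_compactSpace _
  haveI : QuasiCompact p₂ := MorphismProperty.of_isPullback (P := @QuasiCompact) hP ‹_›
  haveI : IsLocallyNoetherian P := LocallyOfFiniteType.isLocallyNoetherian p₂
  haveI : CompactSpace P := QuasiCompact.compactSpace_of_compactSpace p₂
  haveI : IsNoetherian P := {}
  haveI : IsClosedImmersion Δ := inferInstanceAs (IsClosedImmersion (pullback.diagonal f))
  haveI := DerPush.hasRpush_sch Δ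
  have hι : RegImm.IsRegularImmersionOfCodim RegImm.Kind.regular n Δ :=
    SectRank.isRegularImmersionOfCodim_of_section n p₂ Δ h₂
  obtain ⟨L, hL, ⟨t⟩⟩ := exists_extPow_trivial e
  have hpm : MoreMor.IsPerfectMor Δ := S1510.result Δ p₂ (by
    rw [h₂]
    exact S7172.result (𝟙 X))
  refine SmoothShriek.nonempty_shriek_of_diag c adj hP Δ h₁ h₂ (fun G hG => ?_) (n : ℤ) fun hd d adjd O hO => ?_
  · obtain ⟨-, a', b', ha', hb'⟩ := S1006.result X G hG
    haveI := ha'
    exact S4267.result Δ hpm G a' hG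
  · obtain ⟨e₀⟩ := SmoothShriek.nonempty_adjoint_regular hι hL adjd O hO
    exact ⟨e₀ ≪≫ (shiftFunctor (DCoh.D X) (-(n : ℤ))).mapIso
      ((DerivedCategory.singleFunctor X.Modules 0).mapIso t)⟩

end Groth.Agent.LCIShriek
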