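import Groth.Agent.LCIShriek.Chart
import Groth.Agent.DCohShriek.Composite
import Groth.Agent.Compactif.Basic
import Groth.Agent.Nagata.Noether
import Groth.Agent.AVMukai.Shift
import Groth.Agent.PerfPush.Unit
import Groth.Agent.PerfGen.Open

/-!
`f^!` of a local complete intersection morphism is locally a shift of `Lf^*`.
-/

set_option autoImplicit false
set_option backward.isDefEq.respectTransparency false
set_option backward.isDefEq.respectTransparency.types false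
set_option linter.style.haveILetI false
set_option linter.unusedSectionVars false
set_option maxHeartbeats 1600000

universe u

open CategoryTheory Limits AlgebraicGeometry

attribute [local instance] HasDerivedCategory.standard

namespace Groth.Agent.LCIShriek

open Groth.Agent.DQCoh (RD rdComp rdCongr)
open Groth.Agent.PerfGen Groth.Agent.DCohShriek

variable {W X Y : Scheme.{u}}

/-- the twisted inverse image is bounded below on bounded below objects -/
theorem isBdd_shriek [IsNoetherian Y] {f : X ⟶ Y} (c : DEt.Compactification f) [DCoh.HasRpush c.fbar]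
    {hc : DCoh.RpushPreservesQCoh c.fbar} {a : DCoh.DQCoh Y ⥤ DCoh.DQCoh c.Xbar}
    (adj : DCoh.RpushQ c.fbar hc ⊣ a) (K : (Dual3.IsBddBelowQ Y).FullSubcategory) :
    Dual3.IsBddBelowQ X ((rdQ c.j).obj (a.obj K.obj)) := by
  haveI := isNoetherian_of_proper c.fbar
  obtain ⟨n, hn⟩ := K.property
  obtain ⟨m, hm⟩ := exists_bdd_adjoint c.fbar adj K.obj n hn
  exact ⟨m, isGE_RD c.j hm⟩

theorem nonempty_RD_comp_shriek [IsNoetherian X] [IsNoetherian Y] [IsNoetherian W] {f : X ⟶ Y} (w : W ⟶ X)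
    [IsOpenImmersion w] (c : DEt.Compactification f) (c' : DEt.Compactification (w ≫ f)) [DCoh.HasRpush c.fbar]
    [DCoh.HasRpush c'.fbar] {hc : DCoh.RpushPreservesQCoh c.fbar} {hc' : DCoh.RpushPreservesQCoh c'.fbar}
    {a : DCoh.DQCoh Y ⥤ DCoh.DQCoh c.Xbar} {a' : DCoh.DQCoh Y ⥤ DCoh.DQCoh c'.Xbar}
    (adj : DCoh.RpushQ c.fbar hc ⊣ a) (adj' : DCoh.RpushQ c'.fbar hc' ⊣ a')
    (K : (Dual3.IsBddBelowQ Y).FullSubcategory) :
    Nonempty ((RD w).obj ((RD c.j).obj (a.obj K.obj).obj) ≅ (RD c'.j).obj (a'.obj K.obj).obj) := by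
  haveI : QuasiCompact w := quasiCompact_of_compactSpace _
  obtain ⟨cw, -, -, -, -⟩ := Compactif.exists_compactification (f := w) (𝟙 X) w (Category.comp_id w)
  haveI := isNoetherian_of_proper cw.fbar
  haveI := DerPush.hasRpush_sch cw.fbar
  have hw : DCoh.RpushPreservesQCoh cw.fbar := fun K hK => DQPush.isQCohD_rpush cw.fbar hK
  haveI := isLeftAdjoint_rpushQ cw.fbar hw
  let adjw := Adjunction.ofIsLeftAdjoint (DCoh.RpushQ cw.fbar hw)
  obtain ⟨e⟩ := nonempty_shriek_comp cw c c' adjw adj adj'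
  obtain ⟨eo⟩ := nonempty_shriek_openImmersion cw adjw
  exact ⟨(e.app K ≪≫ eo.app ⟨(rdQ c.j).obj (a.obj K.obj), isBdd_shriek c adj K⟩).symm⟩

/-- the composite with a closed immersion -/
theorem nonempty_shriek_closed [IsNoetherian X] [IsNoetherian Y] [IsNoetherian W] {g : X ⟶ Y} (i : W ⟶ X)
    [IsClosedImmersion i] {r : ℕ} (hi : RegImm.IsRegularImmersionOfCodim RegImm.Kind.regular r i)
    (hpm : MoreMor.IsPerfectMor i) (e : Omega.conormal i ≅ FlatMod.freeMod W r)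
    (c : DEt.Compactification g) (c' : DEt.Compactification (i ≫ g)) [DCoh.HasRpush c.fbar]
    [DCoh.HasRpush c'.fbar] {hc : DCoh.RpushPreservesQCoh c.fbar} {hc' : DCoh.RpushPreservesQCoh c'.fbar}
    {a : DCoh.DQCoh Y ⥤ DCoh.DQCoh c.Xbar} {a' : DCoh.DQCoh Y ⥤ DCoh.DQCoh c'.Xbar}
    (adj : DCoh.RpushQ c.fbar hc ⊣ a) (adj' : DCoh.RpushQ c'.fbar hc' ⊣ a') [DCoh.HasLpull i]
    (K : (Dual3.IsBddBelowQ Y).FullSubcategory) :
    Nonempty ((RD c'.j).obj (a'.obj K.obj).obj ≅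
      ((DCoh.Lpull i).obj ((RD c.j).obj (a.obj K.obj).obj))⟦-(r : ℤ)⟧) := by
  let cI : DEt.Compactification i := ⟨W, 𝟙 W, i, inferInstance, inferInstance, Category.id_comp i⟩
  haveI : DCoh.HasRpush i := DerPush.hasRpush_sch i
  haveI : DCoh.HasRpush cI.fbar := DerPush.hasRpush_sch i
  have hq : DCoh.RpushPreservesQCoh i := fun K hK => DQPush.isQCohD_rpush i hK
  have hqI : DCoh.RpushPreservesQCoh cI.fbar := hq
  haveI := isLeftAdjoint_rpushQ i hq
  let d := (DCoh.RpushQ i hq).rightAdjoint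
  let adjd : DCoh.RpushQ i hq ⊣ d := Adjunction.ofIsLeftAdjoint _
  obtain ⟨ec⟩ := nonempty_shriek_comp (hf := hqI) cI c c' (a := d) adjd adj adj'
  obtain ⟨ed⟩ := nonempty_adjoint_free hi hpm e adjd
  exact ⟨ec.app K ≪≫ (rdId W).app (d.obj ((rdQ c.j).obj (a.obj K.obj))).obj ≪≫
    ed.app ((rdQ c.j).obj (a.obj K.obj))⟩

/-- **local description of `f^!`** -/
theorem exists_local_shriek [IsNoetherian X] [IsNoetherian Y] {f : X ⟶ Y} (hf : Dual3.IsLCIMor f)
    (c : DEt.Compactification f) [DCoh.HasRpush c.fbar] {hc : DCoh.RpushPreservesQCoh c.fbar}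
    {a : DCoh.DQCoh Y ⥤ DCoh.DQCoh c.Xbar} (adj : DCoh.RpushQ c.fbar hc ⊣ a) (x : X) :
    ∃ (W : Scheme.{u}) (w : W ⟶ X) (_ : IsOpenImmersion w), x ∈ Set.range w.base ∧
      ∀ K : (Dual3.IsBddBelowQ Y).FullSubcategory,
        (Nonempty (K.obj.obj ≅ DCoh.inD Y (Coh.structureModule Y)) → ∃ m : ℤ,
          Nonempty ((RD w).obj ((RD c.j).obj (a.obj K.obj).obj) ≅
            (DCoh.inD W (Coh.structureModule W))⟦m⟧)) ∧
        (DCoh.IsPerfect K.obj.obj → DCoh.IsPerfect ((RD w).obj ((RD c.j).obj (a.obj K.obj).obj))) := by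
  obtain ⟨W, P, w, i, g, n, r, hw, hx, hi', hP, hgs, hg, hi, hig, ⟨eN⟩, ⟨eΩ⟩⟩ := exists_factor f hf x
  haveI : Smooth g := SmoothOfRelativeDimension.smooth n g
  haveI : IsLocallyNoetherian P := LocallyOfFiniteType.isLocallyNoetherian g
  haveI : IsNoetherian P := {}
  haveI : IsAffine W := isAffine_of_isAffineHom i
  haveI : IsLocallyNoetherian W := isLocallyNoetherian_of_isOpenImmersion w
  haveI : IsNoetherian W := {}
  haveI := KFlat.hasLpull g
  haveI := KFlat.hasLpull i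
  have hpm : MoreMor.IsPerfectMor i := S1510.result i g (by
    rw [hig]
    refine MorphismProperty.comp_mem (W := @MoreMor.IsPerfectMor.{u}) _ _ (S7172.result w) ?_
    refine PCMor.of_forall_exists (P := @MoreMor.IsPerfectMor) f PCMor.pf_locSource fun y => ?_
    obtain ⟨U, V, e, hyU, hl⟩ := hf y
    exact ⟨U.1, V.1, e, U.2, V.2, hyU, by
      letI := (f.appLE V.1 U.1 e).hom.toAlgebra
      exact S7070.result Γ(Y, V.1) Γ(X, U.1) hl⟩)
  haveI : IsSeparated g := hgs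
  haveI : QuasiCompact g := quasiCompact_of_compactSpace _
  obtain ⟨Pbar, j, p, hj, -, hp, hjp⟩ := Nagata.exists_compactification g
  let cg : DEt.Compactification g := ⟨Pbar, j, p, hj, hp, hjp⟩
  haveI := isNoetherian_of_proper cg.fbar
  haveI : QuasiCompact (i ≫ cg.j) := quasiCompact_of_compactSpace _
  obtain ⟨c', -, -, -, -⟩ := Compactif.exists_compactification (f := i ≫ g) cg.fbar (i ≫ cg.j)
    (by rw [Category.assoc, cg.fac])
  let c'' : DEt.Compactification (w ≫ f) := ⟨c'.Xbar, c'.j, c'.fbar, inferInstance, inferInstance, c'.fac.trans hig⟩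
  haveI := DerPush.hasRpush_sch cg.fbar
  haveI : DCoh.HasRpush c'.fbar := DerPush.hasRpush_sch c'.fbar
  haveI : DCoh.HasRpush c''.fbar := DerPush.hasRpush_sch c'.fbar
  have hg' : DCoh.RpushPreservesQCoh cg.fbar := fun K hK => DQPush.isQCohD_rpush cg.fbar hK
  have hc' : DCoh.RpushPreservesQCoh c'.fbar := fun K hK => DQPush.isQCohD_rpush c'.fbar hK
  haveI := isLeftAdjoint_rpushQ cg.fbar hg'
  haveI := isNoetherian_of_proper c'.fbar
  haveI := isLeftAdjoint_rpushQ c'.fbar hc'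
  let adjg := Adjunction.ofIsLeftAdjoint (DCoh.RpushQ cg.fbar hg')
  let adj' := Adjunction.ofIsLeftAdjoint (DCoh.RpushQ c'.fbar hc')
  obtain ⟨eg⟩ := nonempty_shriek_smooth_free n eΩ cg adjg
  refine ⟨W, w, hw, hx, fun K => ?_⟩
  obtain ⟨e₁⟩ := nonempty_RD_comp_shriek w c c'' (hc' := hc') adj adj' K
  obtain ⟨e₂⟩ := nonempty_shriek_closed i hi hpm eN cg c' adjg adj' K
  let E : (RD w).obj ((RD c.j).obj (a.obj K.obj).obj) ≅
      ((DCoh.Lpull i).obj (((DCoh.Lpull g).obj K.obj.obj)⟦(n : ℤ)⟧))⟦-(r : ℤ)⟧ :=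
    e₁ ≪≫ e₂ ≪≫ (shiftFunctor _ (-(r : ℤ))).mapIso ((DCoh.Lpull i).mapIso (eg.app K))
  refine ⟨fun hO => ?_, fun hP => ?_⟩
  · obtain ⟨eO⟩ := hO
    obtain ⟨ug⟩ := PerfPush.nonempty_lpull_unit g
    obtain ⟨ui⟩ := PerfPush.nonempty_lpull_unit i
    obtain ⟨s⟩ := AVMukai.nonempty_lpull_shift i (DCoh.inD P (Coh.structureModule P)) (n : ℤ)
    exact ⟨(n : ℤ) + -(r : ℤ), ⟨E ≪≫ (shiftFunctor _ (-(r : ℤ))).mapIso
      ((DCoh.Lpull i).mapIso ((shiftFunctor _ (n : ℤ)).mapIso ((DCoh.Lpull g).mapIso eO ≪≫ ug)) ≪≫ s ≪≫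
        (shiftFunctor _ (n : ℤ)).mapIso ui) ≪≫
      ((shiftFunctorAdd (DCoh.D W) (n : ℤ) (-(r : ℤ))).app _).symm⟩⟩
  · exact DQCoh.perfect_of_iso E.symm (DQCoh.perfect_shift
      (DerPerf.isPerfect_Lpull i _ (DQCoh.perfect_shift (DerPerf.isPerfect_Lpull g _ hP) _)) _)

end Groth.Agent.LCIShriek
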